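import Cfsg.Agent.H461.GW.NonSolv
import Cfsg.Agent.H727.GW.Sp
import Cfsg.Agent.H531.RMAll

/-!
# TEAM GW: `[S5]` small5 and `[S7]` small7

`SA p 2 n j X x B`, `n ≤ 4`, `p = 5` or `7`, implies `X = ⊥`.
-/

set_option autoImplicit false

namespace Cfsg.Agent.H461.GW

open Cfsg.Agent.H662.GW

universe u v

theorem SR.gen' {p s n : ℕ} {Y : Type u} {U : Type v} [Group Y] [Finite Y] [AddCommGroup U] [Finite U]
    [DistribMulAction Y U] {X : Subgroup Y} {x : Y} {B : U → U → ZMod s} (h : SR (U := U) p s n X x B) :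
    Gen p X x :=
  ⟨h.hp, h.nX, h.cop, h.gen, SR.x_not_mem h, by rw [← h.ord]; exact pow_orderOf_eq_one x⟩

variable {n j : ℕ} {Y : Type u} {U : Type v} [Group Y] [Finite Y] [AddCommGroup U] [Finite U]
    [DistribMulAction Y U] {X : Subgroup Y} {x : Y} {B : U → U → ZMod 2}

/-- `|Sp_8(2)| = 2 ^ 16 3 ^ 5 5 ^ 2 7 17` -/
theorem card_dvd_eight {c : ℕ} (hn : n ≤ 4) (hc : c ∣ 2 ^ (n ^ 2) * ∏ i ∈ Finset.range n, (2 ^ (2 * (i + 1)) - 1)) :
    c ∣ 2 ^ 16 * 3 ^ 5 * 5 ^ 2 * 7 * 17 := by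
  refine hc.trans ?_
  interval_cases n <;> simp [Finset.prod_range_succ]

theorem card_five (h : SR (U := U) 5 2 n X x B) (hn : n ≤ 4) : Nat.card X ∣ 2 ^ 16 * 3 ^ 5 * 7 * 17 := by
  have h1 : Nat.card X ∣ 5 ^ 2 * (2 ^ 16 * 3 ^ 5 * 7 * 17) :=
    (card_dvd_eight hn (Cfsg.Agent.H727.GW.SR.card_dvd h)).trans (by norm_num)
  exact Nat.Coprime.dvd_of_dvd_mul_left
    (Nat.Coprime.pow_right 2 ((Nat.Prime.coprime_iff_not_dvd Nat.prime_five).mpr h.cop).symm) h1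

theorem card_seven (h : SR (U := U) 7 2 n X x B) (hn : n ≤ 4) : Nat.card X ∣ 2 ^ 16 * 3 ^ 5 * 5 ^ 2 * 17 := by
  have h1 : Nat.card X ∣ 7 * (2 ^ 16 * 3 ^ 5 * 5 ^ 2 * 17) :=
    (card_dvd_eight hn (Cfsg.Agent.H727.GW.SR.card_dvd h)).trans (by norm_num)
  exact Nat.Coprime.dvd_of_dvd_mul_left ((Nat.Prime.coprime_iff_not_dvd (by norm_num)).mpr h.cop).symm h1

theorem solvable_five (h : SR (U := U) 5 2 n X x B) (hn : n ≤ 4) : Group.IsSolvable X := by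
  refine solvable_of Cfsg.Agent.H531.RMAll.realMoveAll (N₀ := 2 ^ 16 * 3 ^ 5 * 7 * 17) ?_ ?_ _ Y X x le_rfl
    (SR.gen' h) (card_five h hn)
  · intro d hd
    by_contra hcon
    push Not at hcon
    have h1 : d ≤ 71 := by
      by_contra h2
      push Not at h2
      have h3 := Nat.le_of_dvd (by norm_num) hd
      have h4 : 72 ^ 5 ≤ d ^ 5 := Nat.pow_le_pow_left h2 5
      norm_num at h3 h4
      omega
    interval_cases d <;> norm_num at hd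
  · intro l hl hd
    have e : ∀ q : ℕ, q.Prime → l ∣ q → l = q := fun q hq h => (Nat.prime_dvd_prime_iff_eq hl hq).mp h
    simp only [hl.dvd_mul] at hd
    rcases hd with ((hd | hd) | hd) | hd
    · rw [e 2 (by norm_num) (hl.dvd_of_dvd_pow hd)]; norm_num
    · rw [e 3 (by norm_num) (hl.dvd_of_dvd_pow hd)]; norm_num
    · rw [e 7 (by norm_num) hd]; norm_num
    · rw [e 17 (by norm_num) hd]; norm_num

theorem solvable_seven (h : SR (U := U) 7 2 n X x B) (hn : n ≤ 4) : Group.IsSolvable X := by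
  refine solvable_of Cfsg.Agent.H531.RMAll.realMoveAll (N₀ := 2 ^ 16 * 3 ^ 5 * 5 ^ 2 * 17) ?_ ?_ _ Y X x le_rfl
    (SR.gen' h) (card_seven h hn)
  · intro d hd
    by_contra hcon
    push Not at hcon
    have h3 := Nat.le_of_dvd (by norm_num) hd
    have h4 : 60 ^ 7 ≤ d ^ 7 := Nat.pow_le_pow_left hcon 7
    norm_num at h3 h4
    omega
  · intro l hl hd
    have e : ∀ q : ℕ, q.Prime → l ∣ q → l = q := fun q hq h => (Nat.prime_dvd_prime_iff_eq hl hq).mp h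
    simp only [hl.dvd_mul] at hd
    rcases hd with ((hd | hd) | hd) | hd
    · rw [e 2 (by norm_num) (hl.dvd_of_dvd_pow hd)]; norm_num
    · rw [e 3 (by norm_num) (hl.dvd_of_dvd_pow hd)]; norm_num
    · rw [e 5 (by norm_num) (hl.dvd_of_dvd_pow hd)]; norm_num
    · rw [e 17 (by norm_num) hd]; norm_num

theorem ppow_cases {r k : ℕ} (hr : r.Prime) (hr2 : r ≠ 2) (hk : 1 ≤ k) (hd : r ^ k ∣ 2 ^ 16 * 3 ^ 5 * 5 ^ 2 * 7 * 17) :
    (r = 3 ∧ k ≤ 5) ∨ (r = 5 ∧ k ≤ 2) ∨ (r = 7 ∧ k ≤ 1) ∨ (r = 17 ∧ k ≤ 1) := by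
  have h2 := (dvd_pow_self r (by omega)).trans hd
  have h3 : r = 3 ∨ r = 5 ∨ r = 7 ∨ r = 17 := by
    simp only [hr.dvd_mul] at h2
    have e : ∀ q : ℕ, q.Prime → r ∣ q → r = q := fun q hq h => (Nat.prime_dvd_prime_iff_eq hr hq).mp h
    rcases h2 with (((h | h) | h) | h) | h
    · exact absurd (e 2 (by norm_num) (hr.dvd_of_dvd_pow h)) hr2
    · exact Or.inl (e 3 (by norm_num) (hr.dvd_of_dvd_pow h))
    · exact Or.inr (Or.inl (e 5 (by norm_num) (hr.dvd_of_dvd_pow h)))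
    · exact Or.inr (Or.inr (Or.inl (e 7 (by norm_num) h)))
    · exact Or.inr (Or.inr (Or.inr (e 17 (by norm_num) h)))
  rcases h3 with rfl | rfl | rfl | rfl
  · left
    refine ⟨rfl, ?_⟩
    by_contra h4
    have h5 : 3 ^ 6 ∣ 2 ^ 16 * 3 ^ 5 * 5 ^ 2 * 7 * 17 := (pow_dvd_pow 3 (by omega)).trans hd
    norm_num at h5
  · right; left
    refine ⟨rfl, ?_⟩
    by_contra h4
    have h5 : 5 ^ 3 ∣ 2 ^ 16 * 3 ^ 5 * 5 ^ 2 * 7 * 17 := (pow_dvd_pow 5 (by omega)).trans hd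
    norm_num at h5
  · right; right; left
    refine ⟨rfl, ?_⟩
    by_contra h4
    have h5 : 7 ^ 2 ∣ 2 ^ 16 * 3 ^ 5 * 5 ^ 2 * 7 * 17 := (pow_dvd_pow 7 (by omega)).trans hd
    norm_num at h5
  · right; right; right
    refine ⟨rfl, ?_⟩
    by_contra h4
    have h5 : 17 ^ 2 ∣ 2 ^ 16 * 3 ^ 5 * 5 ^ 2 * 7 * 17 := (pow_dvd_pow 17 (by omega)).trans hd
    norm_num at h5

omit [Finite Y] in
theorem ne_bot_of_ne {R : Subgroup Y} (hxR : ∃ g ∈ R, x * g ≠ g * x) : R ≠ ⊥ := by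
  rintro rfl
  obtain ⟨g, hg, hxg⟩ := hxR
  rw [Subgroup.mem_bot] at hg
  subst hg
  simp at hxg

/-- **[S7]** -/
theorem small7 (h : SA (U := U) 7 2 n j X x B) (hn : n ≤ 4) : X = ⊥ := by
  by_contra hX
  obtain ⟨r, R, hr, hR, hRX, hpR, hxR⟩ := SR.exists_rgroup h.toSR (solvable_seven h.toSR hn) hX
  have hR1 := ne_bot_of_ne hxR
  have hr2 : r ≠ 2 := by
    rintro rfl
    exact hR1 (SR.core_bot h.toSR hR hpR)
  have := Fact.mk hr
  obtain ⟨k, hk⟩ := IsPGroup.iff_card.mp hpR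
  have hk1 : 1 ≤ k := by
    by_contra hk1
    have hk0 : k = 0 := by omega
    rw [hk0, pow_zero] at hk
    exact hR1 (Subgroup.card_eq_one.mp hk)
  have hRd : Nat.card R ∣ Nat.card X := Subgroup.card_dvd_of_le hRX
  have hcases := ppow_cases hr hr2 hk1
    (hk ▸ hRd.trans (card_dvd_eight hn (Cfsg.Agent.H727.GW.SR.card_dvd h.toSR)))
  obtain ⟨C, hCR, hne, hC, hCd, hClt, hmod⟩ := SR.exists_cent h.toSR hR hxR
  have hr7 : r ≠ 7 := by
    rintro rfl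
    have h7 : 7 ∣ 7 ^ k := dvd_pow_self 7 (show k ≠ 0 by omega)
    rw [← hk] at h7
    exact h.cop (h7.trans hRd)
  rw [hk] at hCd hmod hClt
  obtain ⟨c, hck, hc⟩ := (Nat.dvd_prime_pow hr).mp hCd
  rw [hc] at hmod hClt
  have hck' : c < k := (Nat.pow_lt_pow_iff_right hr.one_lt).mp hClt
  unfold Nat.ModEq at hmod
  rcases hcases with ⟨rfl, hk5⟩ | ⟨rfl, hk5⟩ | ⟨rfl, hk5⟩ | ⟨rfl, hk5⟩
  · interval_cases k <;> interval_cases c <;> omega
  · interval_cases k <;> interval_cases c <;> omega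
  · omega
  · interval_cases k <;> interval_cases c <;> omega

end Cfsg.Agent.H461.GW
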